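import Cfsg.Agent.ThA.Pf

/-! Goldschmidt's theorem `C(T)^∞ O(G) ⊴ G` for a strongly closed 2-subgroup `T` (`thB`). -/
set_option autoImplicit false
set_option linter.unusedSectionVars false
open Subgroup Cfsg.Agent.BG Cfsg.Agent.GW Cfsg.Agent.Sig Cfsg.Agent.Gold Cfsg.Agent.ZD Cfsg.Agent.Invol

namespace Cfsg.Agent.ThA
universe u
variable {G : Type u} [Group G] [Finite G] {A B H K O R S T U X Y Z : Subgroup G} {g : G}

/-- the largest perfect subgroup -/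
def pr {G : Type*} [Group G] (H : Subgroup G) : Subgroup G := sSup {X | X ≤ H ∧ ⁅X, X⁆ = X}

theorem pr_le (H : Subgroup G) : pr H ≤ H := sSup_le fun _ h => h.1
theorem pr_perf (H : Subgroup G) : ⁅pr H, pr H⁆ = pr H := sSup_perfect fun _ h => h.2
theorem le_pr (h : X ≤ H) (hp : ⁅X, X⁆ = X) : X ≤ pr H := le_sSup ⟨h, hp⟩
theorem pr_mono (h : H ≤ K) : pr H ≤ pr K := le_pr ((pr_le H).trans h) (pr_perf H)

theorem map_pr {G' : Type u} [Group G'] [Finite G'] (f : G →* G') (H : Subgroup G) : (pr H).map f = pr (H.map f) := by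
  refine (le_pr (map_mono (pr_le H)) (by rw [← map_commutator, pr_perf])).antisymm ?_
  obtain ⟨M, -, ⟨h1, h2⟩, h3⟩ := mingroup_exists (P := fun B => B ≤ H ∧ pr (H.map f) ≤ B.map f) ⟨le_rfl, pr_le _⟩
  exact h2.trans (map_mono (le_pr h1 (h3 _ ⟨(der_sub M).trans h1,
    map_commutator M M f ▸ (pr_perf _).ge.trans (commutator_mono h2 h2)⟩ (der_sub M))))

theorem norms_pr (h : A ≤ N[H]) : A ≤ N[pr H] := fun g hg => mem_norm.2 ((map_pr _ H).trans (congrArg pr (mem_norm.1 (h hg))))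

theorem quo_pr (h : H ≤ N[K]) : pr H /ᵍ K = pr (H /ᵍ K) := by
  rw [← map_subgroupOf_eq_of_le h, ← map_pr]
  exact (mim_map_subtype _ _).trans ((map_pr _ _).trans (congrArg pr (mim_map_subtype _ _).symm))

theorem syl_sup (hU : SylowIn 2 U Y) (ho : Odd #O) (hn : Y ≤ N[O] ∨ O ≤ N[Y]) : SylowIn 2 U (Y ⊔ O) :=
  pHall_trans_idx hU le_sup_left (pnat_odd.2 (ho.of_dvd_nat (Nat.dvd_of_mul_dvd_mul_left (cardG_pos Y)
    (card_mul_relIndex (le_sup_left : Y ≤ Y ⊔ O) ▸ card_sup_dvd hn))))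

theorem cen_split (hZ : SylowIn 2 Z H) (hc : H ≤ C[Z]) : H ≤ Z ⊔ Op' 2 H := by
  obtain ⟨K, h1, h2⟩ := sdprod_Hall_exists hZ ⟨hZ.le, cents_norm hc⟩
  exact h1.sup.ge.trans (sup_le_sup_left (pcore_max ⟨h2.le, h1.sup.ge.trans
    (sup_le (cents_norm (cents_symm (h2.le.trans hc))) (normG K))⟩ h2.pi) _)

theorem CL.cent_of_disj (h : CL B) (nB : B ≤ N[H]) (hO : Op' 2 H = ⊥) (hd : B ⊓ H = ⊥) : B ≤ C[H] := fun a ha => by
  obtain ⟨T, hT, l⟩ := Sylow_superset nB h.pg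
  exact zs0 hO hT.pg (Sylow_setI_normal ⟨normG H, le_rfl⟩ hT) (l ha) (nB ha) fun k g hg m => mul_inv_eq_one.1 (hd.le
    ⟨B.mul_mem (h.cl T hT.pg l g _ (pow_mem ha k) m) (B.inv_mem (pow_mem ha k)),
      by simpa [mul_assoc] using H.mul_mem hg (conj_mem_of_norm (nB (pow_mem ha k)) (H.inv_mem hg))⟩)

theorem st0 (hT : CL T) (l : R ≤ T) (hn : T ≤ N[R]) (hc : T ⊓ C[R] ≤ R) : pr C[R] ≤ pr C[T] ⊔ Op' 2 C[R] := by
  have nO : N[R] ≤ N[Op' 2 C[R]] := norms_pcore _ (norms_cent le_rfl)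
  have nK : N[R] ≤ N[Z[R] ⊔ Op' 2 C[R]] := normsY (norms_center le_rfl) nO
  have lK : Z[R] ⊔ Op' 2 C[R] ≤ C[R] := sup_le inf_le_right (pcore_sub _ _)
  have cZ : C[R] ≤ C[Z[R]] := centS inf_le_left
  have h1 := (hT.quo (hn.trans nK)).cent_of_disj (quotient_norms _ (norms_cent hn)) (by
    obtain ⟨X, h2, h3, h4⟩ := inv_quotientN ⟨lK, (cent_sub R).trans nK⟩ (pcore_normal {2}ᶜ (C[R] /ᵍ (Z[R] ⊔ Op' 2 C[R])))
    refine h4.symm.trans (quotientS1 ((cen_split (pHall_trans_idx (syl_sup (pHall_id ((hT.pg.to_le l).to_le inf_le_left).pi)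
      (odd_Op' _) (.inr (cents_norm ((pcore_sub _ _).trans cZ)))) h2 (pnat_odd.2 ?_)) (h3.le.trans cZ)).trans
        (sup_le_sup_left (pcoreS_normal _ h3) _)))
    rw [← card_quotient (h3.le.trans ((cent_sub R).trans nK)), h4]; exact odd_Op' _) (by
    rw [← quotientIG T lK]; exact quotientS1 ((le_inf hc inf_le_right).trans le_sup_left))
  rw [quotient_cents2 (hn.trans nK) ((cent_sub R).trans nK)] at h1
  have n1 := (pr_le _).trans ((cent_sub R).trans nO)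
  have n2 := (pr_le _).trans ((centS l).trans ((cent_sub R).trans nO))
  rw [sup_comm, ← quotientSK n1 n2, quo_pr ((centS l).trans ((cent_sub R).trans nO)),
    coprime_norm_quotient_cent (hn.trans nO) (cop_two (odd_Op' _) hT.pg) (.inl (pgroup_sol hT.pg))]
  have p : ⁅pr C[R] /ᵍ Op' 2 C[R], pr C[R] /ᵍ Op' 2 C[R]⁆ = pr C[R] /ᵍ Op' 2 C[R] := by rw [← quotientR n1 n1, pr_perf]
  refine le_pr (perf_cent p ?_ (quotient_cents _ ((pr_le _).trans cZ))) p
  rw [← quotientR (hn.trans nO) n1, ← quotientYidr (inf_le_left.trans ((normG R).trans nO))]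
  exact quotientS _ ((commgS _ (pr_le _)).trans h1)

omit [Finite G] in
theorem map_cent (h : C[A ⊓ H] ≤ H) : C[A.subgroupOf H].map H.subtype = C[A ⊓ H] := by
  rw [← inf_subgroupOf_right, cent_subgroupOf inf_le_right, map_subgroupOf_eq_of_le h]

/-- `U` is a Sylow subgroup of `C(R)^∞` for `T`-centric `R ≤ T` -/
theorem syl_pr (hT : CL T) (hU : SylowIn 2 U (pr C[T])) : ∀ R ≤ T, (∀ g, cj g T ⊓ C[R] ≤ R) → SylowIn 2 U (pr C[R]) := by
  intro R
  induction R using WellFoundedGT.induction with | ind R ih => ?_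
  intro l hc
  rcases l.lt_or_eq with h | rfl
  swap
  · exact hU
  have h1 := nilpotent_proper_norm (pgroup_nil hT.pg) h
  obtain ⟨P, hP, l1⟩ := Sylow_superset inf_le_right (hT.pg.to_le (inf_le_left (b := N[R])))
  obtain ⟨S, hS, l2⟩ := Sylow_superset le_top hP.pg
  obtain ⟨g, -, l3⟩ := Sylow_Jsub hS le_top hT.pg
  have l4 : T ⊓ N[R] ≤ cj g T := fun x hx => by
    simpa [mul_assoc] using (hT.cj g).cl S hS.pg l3 g⁻¹ _ (conj_mem_cj g hx.1) (by simpa [mul_assoc] using l2 (l1 hx))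
  have l5 := centS (le_inf l4 inf_le_right)
  have := map_mono (f := N[R].subtype) (st0 (R := R.subgroupOf N[R]) ((hT.cj g).subOf hS.pg l3
    ((Hall_max hP (le_inf hP.le l2) inf_le_left (hS.pg.to_le inf_le_right).pi).symm ▸ hP))
    (comap_mono (h1.le.trans l4)) (le_top.trans (normal_top _).norm)
    (cent_subgroupOf (normG R) ▸ fun x hx => hc g hx))
  rw [Subgroup.map_sup, map_pr, map_pr, Op', ← pcore_map_inj (subtype_injective _), map_cent (l5.trans ((centS h1.le).trans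
    (cent_sub R))), cent_subgroupOf (normG R), map_subgroupOf_eq_of_le (cent_sub R)] at this
  have h2 := ih _ h1 inf_le_left fun g => ((inf_le_inf_left _ (centS h1.le)).trans (hc g)).trans h1.le
  exact pHall_subl (h2.le.trans (pr_mono (centS h1.le))) (this.trans (sup_le_sup_right (pr_mono l5) _))
    (syl_sup h2 (odd_Op' _) (.inl ((pr_le _).trans ((centS h1.le).trans (nO _)))))

def TB (G : Type*) [Group G] : Prop := ∀ T : Subgroup G, CL T → ⊤ ≤ N[pr C[T] ⊔ Op' 2 ⊤]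

def TBI (n : ℕ) : Prop := ∀ (G : Type u) [Group G] [Finite G], Nat.card G < n → TB G

theorem loc_closed (ih : TBI.{u} (Nat.card G)) (hT : CL T) (hS : SylowIn 2 S ⊤) (l : T ≤ S) (hR : R ≤ T) (h : N[R] ≠ ⊤)
    (hP : SylowIn 2 (N[R] ⊓ S) N[R]) (hg : g ∈ N[R]) {u : G} (hu : u ∈ pr C[T]) (e : g * u * g⁻¹ ∈ S) :
    g * u * g⁻¹ ∈ pr C[T] := by
  have l1 := le_inf hR (normG R)
  have l2 := (centS l1).trans (cent_sub R)
  have := norms_map N[R].subtype (ih N[R] (card_top (G := G) ▸ proper_card (lt_top_iff_ne_top.2 h)) _ (hT.subOf hS.pg l hP))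
  rw [Subgroup.map_sup, map_pr, map_cent l2, Op'_top, ← Op'_eq, top_map_subtype] at this
  have hU := Sylow_setI_normal ⟨normG _, le_rfl⟩
    (pHall_subl (norms_pr (norms_cent (hT.le_norm hS.pg l))) le_top hS)
  have h1 := syl_sup (syl_pr hT hU _ inf_le_left fun k x hx => by
    obtain ⟨n, hn, h2⟩ := Sylow_Jsub hP (sup_le (zpowers_le.2 (l2 hx.2)) inf_le_right) (pgroup_iff.2 (pgroupY
      (.inl (cents_norm (zpowers_le.2 hx.2))) ((hT.cj k).pg.to_le (zpowers_le.2 hx.1)).pi (hT.pg.to_le inf_le_left).pi))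
    have m := h2 (conj_mem_cj n (mem_sup_left (mem_zpowers x)))
    refine (conj_mem_iff_of_norm (mem_norm_of_conj fun y hy => ?_)).1 (⟨?_, m.1⟩ : n * x * n⁻¹ ∈ T ⊓ N[R])
    · exact have := h2 (conj_mem_cj n (mem_sup_right hy)); ⟨hT.cl S hS.pg l n y hy.1 this.2, this.1⟩
    · simpa [mul_assoc] using hT.cl S hS.pg l (n * k) _ (mem_cj.1 hx.1) (by simpa [mul_assoc] using m.2))
    (odd_Op' N[R]) (.inl ((pr_le _).trans (l2.trans (nO _))))
  have l3 := (pr_mono (centS (inf_le_left (a := T) (b := N[R])))).trans (le_sup_left (b := Op' 2 N[R]))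
  exact ((Hall_max h1 (inf_le_inf_right _ l3) inf_le_left (hS.pg.to_le inf_le_right).pi).le
    ⟨conj_mem_of_norm (this hg) (l3 hu), e⟩).1

theorem closed (ih : TBI.{u} (Nat.card G)) (hT : CL T) (hS : SylowIn 2 S ⊤) (l : T ≤ S) (h0 : T ≠ ⊥)
    (h : ∀ R ≤ T, R ≠ ⊥ → N[R] ≠ ⊤) : CL (S ⊓ pr C[T]) := by
  have cl : ∀ g, ∀ R ≤ T, cj g R ≤ S → cj g R ≤ T := fun g R hR e x hx => by
    obtain ⟨y, hy, rfl⟩ := mem_cj'.1 hx
    exact hT.cl S hS.pg l g y (hR hy) (e hx)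
  have key : ∀ n, ∀ R ≤ T, #T - #R < n → R ≠ ⊥ → ∀ g, cj g R ≤ T → ∀ u ∈ S ⊓ pr C[T], g * u * g⁻¹ ∈ S →
      g * u * g⁻¹ ∈ pr C[T] := fun n => by
    induction n with
    | zero => exact fun _ _ h => absurd h (Nat.not_lt_zero _)
    | succ n ih' =>
      intro R hR hn h0 g hg u hu e
      rcases hR.lt_or_eq with h1 | rfl
      swap
      · exact conj_mem_of_norm (norms_pr (norms_cent le_rfl) (mem_norm_of_cj_le hg)) hu.2
      have k : ∀ R', R' ≤ T → #R' = #R → ∀ a, cj a (T ⊓ N[R']) ≤ T → ∀ b, cj b (cj a (T ⊓ N[R'])) ≤ T →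
          ∀ u ∈ S ⊓ pr C[T], b * u * b⁻¹ ∈ S → b * u * b⁻¹ ∈ pr C[T] := fun R' h2 h3 a h4 => by
        have k1 := proper_card (nilpotent_proper_norm (pgroup_nil hT.pg) (lt_of_card_lt h2 (h3 ▸ proper_card h1)))
        have := proper_card h1
        exact ih' _ h4 (by rw [card_cj]; omega) fun r => by
          rw [cj_eq_bot.1 r, card_bot] at k1; have := cardG_pos R'; omega
      have uN : u ∈ N[R] := cent_sub _ (centS hR (pr_le _ hu.2))
      obtain ⟨P, hP, l1⟩ := Sylow_superset inf_le_right (hS.pg.to_le (inf_le_left (b := N[R])))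
      obtain ⟨a, -, l2⟩ := Sylow_Jsub hS le_top hP.pg
      have hP' := pHallJ a hP
      rw [← N_cj] at hP'
      replace hP' := (Hall_max hP' (le_inf hP'.le l2) inf_le_left (hS.pg.to_le inf_le_right).pi).symm ▸ hP'
      have l3 : ∀ X ≤ S ⊓ N[R], cj a X ≤ S := fun X hX => (cj_mono a (hX.trans l1)).trans l2
      have m1 := l3 _ le_rfl (conj_mem_cj a ⟨hu.1, uN⟩)
      have l4 := cl a _ inf_le_left (l3 _ (inf_le_inf_right _ l))
      have m2 := k R hR rfl 1 (by simp) a (by simpa using l4) u hu m1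
      obtain ⟨n, hn, l5⟩ := Sylow_Jsub hP' (Q := cj (a * g⁻¹) (S ⊓ N[cj g R])) (by
        rw [cj_inf, ← N_cj, ← cj_mul, inv_mul_cancel_right]; exact inf_le_right)
        (IsPGroup.cj (hS.pg.to_le inf_le_left) _)
      rw [← cj_mul] at l5
      have m3 : n * (a * u * a⁻¹) * n⁻¹ ∈ S := by
        simpa [mul_assoc] using (l5 (conj_mem_cj _ ⟨e, N_cj g R ▸ conj_mem_cj g uN⟩)).2
      have := k (cj g R) hg (card_cj _ _) _ (cl _ _ inf_le_left (((cj_mono _ (inf_le_inf_right _ l)).trans l5).trans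
        inf_le_right)) (n * (a * g⁻¹))⁻¹ (by rw [← cj_mul, inv_mul_cancel, cj_one]; exact inf_le_left) _ ⟨m3, loc_closed ih hT hS l (cl a R hR (l3 R
          (le_inf (hR.trans l) (normG R)))) (h _ (cl a R hR (l3 R (le_inf (hR.trans l) (normG R)))) (mt cj_eq_bot.1 h0))
          hP' hn m2 m3⟩ (by simpa [mul_assoc] using e)
      simpa [mul_assoc] using this
  refine cl_of_sylow hS ⟨inf_le_left, fun u hu g e => ⟨e, ?_⟩⟩
  have l1 : T ≤ C1[u] := le_cent1_iff.2 (pr_le _ hu.2)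
  obtain ⟨P, hP, l2⟩ := Sylow_superset l1 hT.pg
  obtain ⟨c, hc, l3⟩ := Sylow_Jsub hP (Q := cj g⁻¹ (T ⊓ Z[S])) (by
    rw [cj_le_iff, inv_inv, ← C1_conj]; exact inf_le_right.trans (inf_le_right.trans (cent_le_cent1 e)))
    (IsPGroup.cj (hT.pg.to_le inf_le_left) _)
  rw [← cj_mul] at l3
  have e1 : g * c⁻¹ * u * (g * c⁻¹)⁻¹ = g * u * g⁻¹ := by
    rw [mul_assoc g, mem_cent1.1 (inv_mem hc)]; group
  exact e1 ▸ key _ (cj (c * g⁻¹) (T ⊓ Z[S])) (fun x hx => by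
    obtain ⟨y, hy, rfl⟩ := mem_cj'.1 hx
    exact hT.cl P hP.pg l2 _ y hy.1 (l3 hx)) (Nat.lt_succ_self _) (mt cj_eq_bot.1 (meet_center_nil (pgroup_nil hS.pg)
      ⟨l, hT.le_norm hS.pg l⟩ h0)) _ (by simp [← cj_mul]) u hu (e1 ▸ e)

theorem tb_normal (hO : Op' 2 (⊤ : Subgroup G) = ⊥) (ih : TBI.{u} (Nat.card G)) (hT : CL T) (l : R ≤ T) (h0 : R ≠ ⊥)
    (hR : R ⊴ ⊤) : ⊤ ≤ N[pr C[T]] := by
  have n : ∀ {X}, X ≤ _ := le_top.trans hR.norm
  have h1 := norms_cosetpre n ((quo_top hR).le.trans (ih (Quo R) (by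
    simpa [quo_top hR] using ltn_quotient h0 (le_top (a := R))) _ (hT.quo n)))
  have nO : coquo R (Op' 2 ⊤) ⊴ ⊤ := cosetpre_normal hR (by rw [quo_top hR]; exact pcore_normal _ _)
  have nC : C[R] ⊴ ⊤ := ⟨le_top, norms_cent hR.norm⟩
  have h2 : coquo R (Op' 2 ⊤) ⊓ C[R] ≤ R := by
    have := cen_split (Sylow_setI_normal ⟨inf_le_left, le_top.trans (nO.inf nC).norm⟩ (pHall_mk (sub_cosetpre _)
      (hT.pg.to_le l).pi (pnat_odd.2 (by rw [← card_quotient n, cosetpreK]; exact odd_Op' _))))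
      (inf_le_right.trans (centS inf_le_right))
    exact this.trans (sup_le inf_le_right ((pcoreS_normal _ (nO.inf nC)).trans (hO.le.trans bot_le)))
  rw [show pr C[T] = pr (coquo R (pr C[T /ᵍ R] ⊔ Op' 2 ⊤) ⊓ C[R]) from le_antisymm (le_pr (le_inf ((sub_quotient_pre n).1
    ((le_pr (quotient_cents _ (pr_le _)) (by rw [← quotientR n n, pr_perf])).trans le_sup_left))
    ((pr_le _).trans (centS l))) (pr_perf _)) (le_pr (perf_cent (pr_perf _) (((commgS _ (pr_le _)).trans (le_inf ?_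
      ((commgS _ inf_le_right).trans (commg_subr (le_top.trans nC.norm))))).trans h2) ((pr_le _).trans inf_le_right))
      (pr_perf _))]
  · exact norms_pr (normsI h1 nC.norm)
  rw [← sub_quotient_pre n, quotientR n n, commGC]
  have := (pcore_normal {2}ᶜ (⊤ : Subgroup (Quo R))).norm
  exact (commSg _ ((sub_quotient_pre n).2 inf_le_left)).trans (comm_sup_le (le_top.trans this) (le_top.trans this)
    ((commG1.2 (pr_le _)).le.trans bot_le) (commg_subl (le_top.trans this)))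

theorem tb0 (hO : Op' 2 (⊤ : Subgroup G) = ⊥) (ih : TBI.{u} (Nat.card G)) (hT : CL T) : ⊤ ≤ N[pr C[T]] := by
  by_cases h : ∃ R ≤ T, R ≠ ⊥ ∧ N[R] = ⊤
  · obtain ⟨R, h1, h2, h3⟩ := h
    exact tb_normal hO ih hT h1 h2 ⟨le_top, h3.ge⟩
  push Not at h
  rcases eq_or_ne T ⊥ with rfl | h0
  · exact norms_pr (norms_cent (normal_top ⊥).norm)
  obtain ⟨S, hS, l⟩ := Sylow_superset le_top hT.pg
  have hU := closed ih hT hS l h0 h
  have hc : T ≤ C[S ⊓ pr C[T]] := cents_symm (inf_le_right.trans (pr_le _))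
  have hD := hT.inf hU hc
  have nT := Gold.ncl_normal (le_top : T ≤ ⊤)
  have nU := Gold.ncl_normal (le_top : S ⊓ pr C[T] ≤ ⊤)
  have nQ : Op 2 ⊤ ⊴ (⊤ : Subgroup G) := pcore_normal _ _
  have lX := commg_subI (le_top.trans nU.norm) (le_top.trans nT.norm)
  have e : pr C[T] ≤ ncl ⊤ (S ⊓ pr C[T]) := perf_le (pr_perf _) (Sylow_setI_normal ⟨normG _, le_rfl⟩
    (pHall_subl (norms_pr (norms_cent (hT.le_norm hS.pg l))) le_top hS)) (le_top.trans nU.norm)
    ((inf_comm _ S).le.trans (le_ncl _ _))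
  have cD : pr C[T] ≤ C[T ⊓ (S ⊓ pr C[T])] := (pr_le _).trans (centS inf_le_left)
  have h1 := cent_of_two hT hU hc nQ (Op_pgroup 2 ⊤) (le_O2 hO (by
    rw [layerIn_eq_sSup]
    refine commG1'.1 (commutator_sSup_eq_bot fun L hL => commG1'.2 ?_)
    by_cases r : ncl ⊤ (T ⊓ (S ⊓ pr C[T])) ≤ C[L]
    · exact ((thA hT hU hc).trans (by rw [hO, sup_bot_eq])).trans r
    refine (lX.trans inf_le_right).trans (Gold.ncl_le fun g _ => cj_le_iff.2 (C_cj g⁻¹ L ▸ inf_le_right.trans ?_))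
    have hL' : CompIn (cj g⁻¹ L) ⊤ := hL.conj (normG ⊤ (mem_top _))
    have r' : ¬ ncl ⊤ (T ⊓ (S ⊓ pr C[T])) ≤ C[cj g⁻¹ L] := fun r' => r (by
      rwa [C_cj, ← cj_le_iff, (Gold.ncl_normal le_top).cj_eq (mem_top g)] at r')
    have ab := ((inf_le_right (a := T)).trans (inf_le_right (a := S))).trans cD
    obtain ⟨P, h2, hZ, hP, hn, l⟩ := exists_syl hO hL' hD.pg ((le_ncl _ _).trans (hD.norm_ncl hO hL' ab r'))
    exact pq hL'.qs h2 hZ hP hn hD l ab (mt (hD.cent_ncl hO hL') r') (pr_perf _)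
      ((le_ncl _ _).trans (hD.norm_ncl hO hL' cD r')) (cD.trans (centS inf_le_left))) (by
    have h3 := pgroup_iff.2 (pgroupY (.inl (le_top.trans nQ.norm)) hT.pg.pi (Op_pgroup 2 ⊤).pi)
    have h4 : T ⊓ Op 2 ⊤ = ⊥ := by_contra fun r => h _ inf_le_left r (top_le_iff.1 (le_norm_iff.2 fun g hg a ha =>
      ⟨hT.cl _ h3 le_sup_left g a ha.1 (mem_sup_right (nQ.conj_mem hg ha.2)), nQ.conj_mem hg ha.2⟩))
    exact (lX.trans inf_le_left).trans (ncl_le_of_norm (commG1.1 (le_bot_iff.1 (h4 ▸ commg_subI (le_top.trans nQ.norm)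
      (le_sup_right.trans (hT.le_norm h3 le_sup_left))))) (norms_cent nQ.norm))))
  rw [show pr C[T] = pr C[ncl ⊤ T] from (le_pr (e.trans (commG1'.1 h1)) (pr_perf _)).antisymm
    (pr_mono (centS (le_ncl _ _)))]
  exact norms_pr (norms_cent nT.norm)

theorem tbi (n : ℕ) : TBI.{u} n := by
  induction n with
  | zero => exact fun _ _ _ h => absurd h (Nat.not_lt_zero _)
  | succ n ih =>
    intro G _ _ hn T hT
    have nO : Op' 2 ⊤ ⊴ (⊤ : Subgroup G) := pcore_normal _ _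
    have n : ∀ {X}, X ≤ _ := le_top.trans nO.norm
    have := tb0 (quo_top nO ▸ trivg_pcore_quotient _ ⊤) (fun Y _ _ h => ih Y (by
      have := leq_quotient ⊤ (Op' 2 (⊤ : Subgroup G))
      rw [quo_top nO, card_top, card_top] at this
      omega)) (hT.quo n)
    rw [← coprime_norm_quotient_cent n (cop_two (odd_Op' _) hT.pg) (.inl (pgroup_sol hT.pg)), ← quo_pr n,
      ← quo_top nO] at this
    rw [sup_comm, ← quotientK n]
    exact norms_cosetpre n this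

theorem thB (hT : CL T) : ⊤ ≤ N[pr C[T] ⊔ Op' 2 ⊤] := tbi _ G (Nat.lt_succ_self _) T hT

theorem pr_eq (H : Subgroup G) : (⨅ n, derivedSeries H n).map H.subtype = pr H := by
  obtain ⟨_, ⟨m, rfl⟩, h⟩ := (wellFounded_lt (α := Subgroup H)).has_min (Set.range (derivedSeries H)) ⟨_, 0, rfl⟩
  rw [show ⨅ n, derivedSeries H n = pr ⊤ from le_antisymm ((iInf_le _ m).trans (le_pr le_top
    (eq_of_le_of_not_lt (der_sub _) (h _ ⟨m + 1, rfl⟩)))) (le_iInf fun n => ?_), map_pr, top_map_subtype]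
  induction n with
  | zero => exact le_top
  | succ n ih => exact (pr_perf _).ge.trans (commutator_mono ih ih)

end Cfsg.Agent.ThA
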