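import Cfsg.Agent.ThA.Red

/-! Perfect groups centralising an abelian strongly closed subgroup of a component centralise the component. -/
set_option autoImplicit false
set_option linter.unusedSectionVars false
open Subgroup Cfsg.Agent.BG Cfsg.Agent.GW Cfsg.Agent.Sig Cfsg.Agent.Gold Cfsg.Agent.ZD Cfsg.Agent.Invol Cfsg.Agent.Suz
  Cfsg.Agent.Rank1
open scoped commutatorElement

namespace Cfsg.Agent.ThA
universe u
variable {G : Type u} [Group G] [Finite G] {A B D L P R T U X : Subgroup G}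

theorem perf_cent (hp : ⁅X, X⁆ = X) (h1 : ⁅T, X⁆ ≤ R) (h2 : X ≤ C[R]) : X ≤ C[T] := by
  rw [← commG1, ← hp]
  have : ⁅⁅T, X⁆, X⁆ = ⊥ := commG1'.2 (h2.trans (centS h1))
  exact three_subgroup (commGC T X ▸ this) this

theorem perf_le (hp : ⁅X, X⁆ = X) (hU : SylowIn 2 U X) (hn : X ≤ N[R]) (h : U ≤ R) : X ≤ R := by
  rw [← quotient_sub1 hn]
  refine eq_bot_of_perfect_of_le_solvable (by rw [← quotientR hn hn, hp]) (GW.odd_sol ?_) le_rfl
  rw [card_quotient hn, ← inf_relIndex_right]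
  exact (pnat_odd.1 hU.idx).of_dvd_nat (relIndex_dvd_of_le_left X (le_inf h hU.le))

theorem ph {Ω : Type*} [MulAction L Ω] {a : Ω} {t : L} {Q : Subgroup L} (h : HN L Ω a t Q) (hp : ⁅X, X⁆ = X)
    (hn : X ≤ N[L]) (h0 : X ≤ C[(Q0 Q).map L.subtype]) : X ≤ C[L] := by
  let α : X →* MulAut L := L.normalizerMonoidHom.comp (inclusion hn)
  have e : ∀ c x, (α c x : G) = c * x * (c : G)⁻¹ := fun _ _ => rfl
  have k0 : ∀ c, ∀ u ∈ Q0 Q, α c u = u := fun c u hu => Subtype.ext (conj_eq_of_cent (h0 c.2) (mem_map_of_mem _ hu))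
  obtain ⟨u, hu, u1⟩ := exists_mem_ne_one (show Q0 Q ≠ ⊥ from fun e => by have := h.four_le; simp [e] at this)
  have kQ : ∀ c, ∀ x ∈ Q, α c x ∈ Q := fun c x hx => by
    obtain ⟨n, hn⟩ := h.two ⟨x, hx⟩
    exact Setup.mem_Q_of_pow h.setup (Setup.mem_H_of_commute h.setup (Q0_le Q hu) u1 (k0 c u hu ▸
      (h.Q0_comm hu hx).symm.map (α c))) (n := n) (by rw [← map_pow, show x ^ 2 ^ n = 1 from congrArg Subtype.val hn, map_one])
  have nQ : X ≤ N[Q.map L.subtype] := fun c hc => mem_norm_of_cj_le (by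
    rintro _ ⟨_, ⟨x, hx, rfl⟩, rfl⟩; exact mem_map_of_mem L.subtype (kQ ⟨c, hc⟩ x hx))
  have k1 : ∀ c, ∀ x ∈ Q, x⁻¹ * α c x ∈ Q0 Q := by
    have := h.fa
    rcases h.cases with ⟨hq, -⟩ | ⟨hU, hW⟩
    · exact fun c x hx => h.sq_inj le_rfl h.two h.K_conj_Q h.nc hq hx (kQ c x hx) (by rw [← map_mul, k0 c _ (h.sq hx)])
    obtain ⟨s, hs, s0⟩ := h.exists_not
    obtain ⟨E, _, _, _, π, -, h1, c⟩ := hU.exists_EC hW hs s0
    have l : Kg a t ⊔ Wg a t Q ≤ D2 L a t := sup_le (Kg_le a t) (Wg_le a t Q)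
    have cQ : ∀ d ∈ Kg a t ⊔ Wg a t Q, ∀ x ∈ Q, d * x * d⁻¹ ∈ Q := fun d hd x => Setup.conj_mem_Q h.setup (l hd).1
    have eq : ∀ x ∈ Q, ∀ y ∈ Q, π x = π y ↔ x⁻¹ * y ∈ Q0 Q := fun x hx y hy => by
      rw [← c.ker _ (mul_mem (inv_mem hx) hy), c.add _ (inv_mem hx) _ hy, c.inv hx, CharTwo.add_eq_zero]
    let f : ↥(Kg a t ⊔ Wg a t Q) →* E := ⟨⟨fun d => π (d.1 * s * d.1⁻¹), by simp [h1]⟩, fun d e => by
      obtain ⟨l, hl⟩ := c.lin d d.2
      simp only [hl s hs, h1, mul_one, ← hl _ (cQ e e.2 s hs), coe_mul]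
      congr 1; group⟩
    have cyc : IsCyclic ↥(Kg a t ⊔ Wg a t Q) := isCyclic_of_injective_ringHom f fun d d' r => by
      obtain ⟨k, hk, w, hw, e'⟩ := (mem_sup_normr (cents_norm (le_cent_iff.2 fun k hk w hw =>
        (h.W_comm_K hw hk).symm.eq))).1 (d⁻¹ * d').2
      obtain ⟨l, hl⟩ := c.lin _ d⁻¹.2
      have := hU.fpf_KW hk hw hs s0 (by
        rw [← e', ← eq _ hs _ (cQ _ (d⁻¹ * d').2 s hs), show (d⁻¹ * d').1 * s * (d⁻¹ * d').1⁻¹ =
          d⁻¹.1 * (d'.1 * s * d'.1⁻¹) * d⁻¹.1⁻¹ by simp [mul_assoc], hl _ (cQ _ d'.2 s hs), show π (d'.1 * s * d'.1⁻¹) = f d from r.symm]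
        exact (congrArg π (by simp [mul_assoc])).trans (hl _ (cQ _ d.2 s hs)))
      exact inv_mul_eq_one.1 (Subtype.ext (by rw [e', this.1, this.2, mul_one]; rfl))
    have nJ : (Kg a t ⊔ Wg a t Q).map L.subtype ≤ N[Q.map L.subtype] := norms_map _ (le_norm_iff.2 cQ)
    have cJ : ⁅X, (Kg a t ⊔ Wg a t Q).map L.subtype⁆ ≤ Q.map L.subtype := by
      rw [← quotient_cents2 nQ nJ, ← hp, quotientR nQ nQ]
      refine der1_cent_cyclic (morphim_cyclic _ (isCyclic_of_surjective _ (equivMapOfInjective _ _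
        L.subtype_injective).surjective)) ?_
      rw [← quotientYidl nJ]
      refine quotient_norms _ (fun x hx => mem_norm_of_cj_le (by
        rw [cj_sup, cj_of_norm (nQ hx)]
        refine sup_le le_sup_left ?_
        rintro _ ⟨_, ⟨d, hd, rfl⟩, rfl⟩
        have k : ∀ u ∈ Q0 Q, Commute (α ⟨x, hx⟩ d * d⁻¹) u := fun u hu => by
          have := k0 ⟨x, hx⟩ _ (h.conj_mem_Q0 (inv_mem (l hd)).1 hu)
          rw [map_mul, map_mul, k0 _ u hu, inv_inv, map_inv] at this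
          change _ = _
          calc _ = α ⟨x, hx⟩ d * (d⁻¹ * u * d) * d⁻¹ := by group
            _ = _ := by rw [← this]; group
        obtain ⟨q, hq, w, hw, r⟩ := Setup.exists_QD h.setup (Setup.mem_H_of_commute h.setup (Q0_le Q hu) u1 (k u hu))
        rw [← Subgroup.map_sup]
        exact mem_map_of_mem L.subtype (x := α ⟨x, hx⟩ d) (mul_inv_eq_iff_eq_mul.1 r ▸ mul_mem (mul_mem_sup' hq
          (mem_sup_right (mem_Wg.2 ⟨hw, fun u hu => by
            simpa [r] using (h.Q0_comm hu hq).symm.inv_left.mul_left (k u hu)⟩))) (mem_sup_right hd))))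
    have lin : ∀ x, ∀ y ∈ Q, π (α x y) = π (α x s) * π y := fun x y hy => by
      let A : Subgroup L :=
        { carrier := {y | y ∈ Q ∧ π (α x y) = π (α x s) * π y}
          mul_mem' := fun {y z} hy hz => ⟨mul_mem hy.1 hz.1, by
            rw [map_mul, c.add _ (kQ x y hy.1) _ (kQ x z hz.1), c.add y hy.1 z hz.1, hy.2, hz.2, mul_add]⟩
          one_mem' := ⟨one_mem _, by simp [(c.ker 1 (one_mem _)).2 (one_mem _)]⟩
          inv_mem' := fun {y} hy => ⟨inv_mem hy.1, by rw [map_inv, c.inv (kQ x y hy.1), c.inv hy.1, hy.2]⟩ }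
      refine (((hU.irred hW (A := A) (fun u hu => ⟨Q0_le Q hu, by
        rw [k0 x u hu, (c.ker u (Q0_le Q hu)).2 hu, mul_zero]⟩) (fun y hy => hy.1) fun d hd y hy =>
        ⟨cQ d hd y hy.1, ?_⟩).resolve_left fun r => s0 (r.le ⟨hs, by rw [h1, mul_one]⟩)).ge hy).2
      obtain ⟨l, hl⟩ := c.lin d hd
      have q : α x d * d⁻¹ ∈ Q := (mem_map_iff_mem L.subtype_injective).1
        (cJ (commutator_mem_commutator x.2 (mem_map_of_mem _ hd)))
      have m := cQ d hd _ (kQ x y hy.1)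
      rw [show α x (d * y * d⁻¹) = α x d * d⁻¹ * (d * α x y * d⁻¹) * (α x d * d⁻¹)⁻¹ by simp [mul_assoc],
        c.add _ (mul_mem q m) _ (inv_mem q), c.add _ q _ m, c.inv q, add_right_comm, CharTwo.add_self_eq_zero, zero_add,
        hl _ (kQ x y hy.1), hl y hy.1, hy.2, mul_left_comm]
    let χ : X →* Eˣ := MonoidHom.toHomUnits ⟨⟨fun x => π (α x s), by simp [h1]⟩, fun x y => by
      simp only [map_mul, MulAut.mul_apply, lin x _ (kQ y s hs)]⟩
    have : X ≤ χ.ker.map X.subtype := hp.ge.trans (commutator_le.2 fun x hx y hy =>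
      mem_map_of_mem X.subtype (x := ⁅(⟨x, hx⟩ : X), ⟨y, hy⟩⁆) (by simp [commutatorElement_eq_one_iff_mul_comm, mul_comm]))
    intro x y hy
    rw [← eq _ hy _ (kQ x y hy), lin x y hy, show π (α x s) = 1 from
      congrArg Units.val ((mem_map_iff_mem X.subtype_injective).1 (this x.2)), one_mul]
  have cQ : X ≤ C[Q.map L.subtype] := perf_cent hp (commutator_le.2 (by
    rintro _ ⟨x, hx, rfl⟩ c hc
    simpa [commutatorElement_def, mul_assoc, e] using mem_map_of_mem L.subtype (k1 ⟨c, hc⟩ _ (inv_mem hx)))) h0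
  have cD : X ≤ C[(D2 L a t).map L.subtype] := perf_cent hp (commutator_le.2 (by
    rintro _ ⟨x, hx, rfl⟩ c hc
    simpa [commutatorElement_def, mul_assoc, e] using mem_map_of_mem L.subtype
      (h.comm_mem (α ⟨c, hc⟩) (k0 _) (k1 _) hx.1))) cQ
  obtain ⟨U, hU⟩ := Sylow_exists 2 X
  refine perf_le hp hU (norms_cent hn) fun c hc => ?_
  obtain ⟨n, hc2⟩ := hU.pg ⟨c, hc⟩
  refine mem_of_sq_mem (q := (· ∈ X)) (fun c hc => mul_mem hc hc) (fun c hc cc => mem_cent.2 fun x hx =>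
    (mul_inv_eq_iff_eq_mul.1 (congrArg Subtype.val (h.fix_all (α ⟨c, hc⟩) (fun y => Subtype.ext ?_)
      (fun x hx => Subtype.ext (conj_eq_of_cent (cQ hc) (mem_map_of_mem _ hx)))
      (fun x hx => Subtype.ext (conj_eq_of_cent (cD hc) (mem_map_of_mem _ hx))) ⟨x, hx⟩))).symm)
    (congrArg Subtype.val hc2) (hU.le hc)
  rw [e, e]; exact .trans (by group) (conj_eq_of_cent cc y.2)

theorem ps [IsSimpleGroup L] (hna : ¬ IsMulCommutative L) (h2 : IsPGroup 2 T) (hS : SylowIn 2 (L ⊓ T) L) (hD : CL D)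
    (l : D ≤ T) (hc : D ≤ C[D]) (hd : D ⊓ L ≠ ⊥) (hp : ⁅X, X⁆ = X) (hn : X ≤ N[L]) (h0 : X ≤ C[D ⊓ L]) : X ≤ C[L] := by
  rcases kcase hna h2 hS hD l hc hd with l | ⟨M, a, t, h, l0⟩
  swap
  · exact ph h hp hn (h0.trans (centS (le_inf l0 (map_subtype_le _))))
  obtain ⟨U, hU⟩ := Sylow_exists 2 X
  have c := h0.trans (centS (le_inf l inf_le_left))
  have := perf_le hp hU (normsY (cents_norm c) (norms_cent hn))
    (inner_of hna hS (centSS l l hc) hU.pg (hU.le.trans hn) (hU.le.trans c))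
  exact hp.ge.trans ((commSg _ this).trans (comm_sup_le (inf_le_left.trans ((normG L).trans (norms_cent le_rfl)))
    (normG _) ((commG1'.2 c).le.trans bot_le) (commg_subl (norms_cent hn))))

theorem pq (hL : IsQuasisimple L) (h2 : IsPGroup 2 T) (hZ : Z[L] ≤ T) (hS : SylowIn 2 (L ⊓ T) L) (hT : T ≤ N[L])
    (hD : CL D) (l : D ≤ T) (hc : D ≤ C[D]) (hd : ¬ D ⊓ L ≤ C[L]) (hp : ⁅X, X⁆ = X) (hn : X ≤ N[L])
    (h0 : X ≤ C[D ⊓ L]) : X ≤ C[L] := by
  have n1 : L ≤ N[Z[L]] := (center_normal L).norm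
  have n2 : T ≤ N[Z[L]] := norms_center hT
  have n3 : X ≤ N[Z[L]] := norms_center hn
  have hs := qs_simple hL
  have e := quotientIG D (inf_le_left : Z[L] ≤ L)
  have := ps (fun r => qs_sol hL (abelian_sol r)) (IsPGroup.mim h2 _) (quotientIG L hZ ▸ quotient_pHall n1 hS)
    (hD.quo (l.trans n2)) (quotientS _ l) (quotient_cents _ hc) (fun r => hd (((quotient_sub1
      (inf_le_right.trans n1)).1 (e.trans r)).trans inf_le_right)) (by rw [← quotientR n3 n3, hp]) (quotient_norms _ hn)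
    (e ▸ quotient_cents _ h0)
  rw [quotient_cents2 n3 n1, commGC] at this
  exact qs_cent hL (this.trans inf_le_right)

end Cfsg.Agent.ThA
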